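import Mathlib
import Cfsg.Agent.H465.Red
import Cfsg.Agent.H479.GoodPSLTwoB
import Cfsg.Agent.H603.SporElim
import Cfsg.Agent.Mrg.Omega.CoTwoK.Normal
import Cfsg.Agent.Mrg.Omega.TwoF.RowMcL_m3
import Cfsg.Agent.H547.PP.FarBaby
import Cfsg.Agent.FastGrp
import Cfsg.Agent.Prune
set_option linter.all false
open scoped Cfsg.Agent.FastGrp

-- part: H465/RedRC
section
/-!
# Reduction of S3853 to radical automorphisms (helper465)

* `eq_one_in` : `Red.eq_one` with the elements `y` taken in a normal subgroup `N` with `G / N` solvable.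
* `aut_of_not_RC` : induction hypothesis `PE L` for the smaller simple groups; `x : MulAut K` which is not radical
  (`H459.Rad.RC`) satisfies `PE.aut`.
* `reduction_RC` : S3853 from: for every simple nonabelian `K`, with `PE L` for all smaller simple `L`, `PE K`.
-/

set_option autoImplicit false
set_option linter.unusedSectionVars false

namespace Cfsg.Agent.H465.Red

open Cfsg Subgroup Cfsg.Agent.SignalizersComponents.ComponentExists Cfsg.Agent.H459.Rad
open Cfsg.Agent.SignalizersComponents.Components Cfsg.Agent.H459.Reduce Cfsg.Agent.H465.SU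

universe u

/-- components lie in normal subgroups with solvable quotient -/
theorem component_le {G : Type*} [Group G] [Finite G] {L N : Subgroup G} (hL : IsComponent L) [N.Normal]
    (hN : Group.IsSolvable (G ⧸ N)) : L ≤ N := by
  have h1 : Group.IsPerfect L := quasisimple_isPerfect hL.2
  have h2 : Group.IsSolvable (L.map (QuotientGroup.mk' N)) := inferInstance
  have h3 : Group.IsPerfect (L.map (QuotientGroup.mk' N)) := Group.IsPerfect.map _
  have h4 : L.map (QuotientGroup.mk' N) = ⊥ := by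
    by_contra h5
    have h6 : Nontrivial (L.map (QuotientGroup.mk' N)) := (nontrivial_iff_ne_bot _).2 h5
    exact Group.IsPerfect.not_isSolvable (L.map (QuotientGroup.mk' N)) h2
  rw [Subgroup.map_eq_bot_iff, QuotientGroup.ker_mk'] at h4
  exact h4

section

variable {G : Type u} [Group G] [Finite G]

theorem eq_one_in {N : Subgroup G} [hNn : N.Normal] (hNs : Group.IsSolvable (G ⧸ N)) (hR : solvableRadical G = ⊥)
    (core : ∀ L : Subgroup G, L ≤ N → IsSimpleGroup L → ¬ IsMulCommutative L → PE L)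
    {x : G} (h : ∀ p : ℕ, p.Prime → p ≠ 2 → ∀ y ∈ N, (∃ k : ℕ, orderOf y = p ^ k) →
      Group.IsSolvable ↥(_root_.Subgroup.closure ({x, y} : Set G))) : x = 1 := by
  by_contra hx
  obtain ⟨L, hL, l0, hl0, hne0⟩ := exists_component hR hx
  have hsimp := component_simple hR hL
  have hcen := component_center hR hL
  have hLN := component_le hL hNs
  have hPE := core L hLN hsimp (quasisimple_not_isMulCommutative hL.2)
  by_cases hm : x ∈ normalizer (L : Set G)
  · -- `x` normalises `L`
    set x' : MulAut L := L.normalizerMonoidHom ⟨x, hm⟩ with hx'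
    have hx1 : x' ≠ 1 := by
      intro h1
      apply hne0
      have h3 : ((x' ⟨l0, hl0⟩ : L) : G) = l0 := by rw [h1]; rfl
      have h4 : ((x' ⟨l0, hl0⟩ : L) : G) = x * l0 * x⁻¹ := rfl
      rw [h4] at h3
      calc x * l0 = (x * l0 * x⁻¹) * x := by group
        _ = l0 * x := by rw [h3]
    obtain ⟨y, ⟨p, k, hp, hp2, hy⟩, hns⟩ := hPE.aut x' hx1
    have h1 := h p hp hp2 y (hLN y.2) ⟨k, by rw [orderOf_coe, hy]⟩
    exact hns (key h1 (c := x) (d := (y : G)) (_root_.Subgroup.subset_closure (by simp)) (_root_.Subgroup.subset_closure (by simp)) hm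
      (le_normalizer y.2) hx'.symm (acts_inner y))
  · -- `x` moves `L`
    have hx1 : cj x L ≠ L := fun h1 => hm (mem_normalizer_of_cj h1)
    have hxi : cj x⁻¹ L ≠ L := by
      intro h1
      have h2 := mem_normalizer_of_cj h1
      exact hm (by simpa using inv_mem h2)
    obtain ⟨p, hp, hp2, a, b, ⟨i, ha⟩, ⟨j, hb⟩, hns⟩ := hPE.pair
    have hxx : ∀ y ∈ L, ∀ l ∈ L, (x * y * x⁻¹) * l = l * (x * y * x⁻¹) := fun y hy l hl =>
      comm_of_cj_ne hL hx1 (conj_mem_cj hy) hl
    have hxxi : ∀ y ∈ L, ∀ l ∈ L, (x⁻¹ * y * x⁻¹⁻¹) * l = l * (x⁻¹ * y * x⁻¹⁻¹) := fun y hy l hl =>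
      comm_of_cj_ne hL hxi (conj_mem_cj hy) hl
    set g : G := a * (x * b * x⁻¹) with hg
    -- `g` is a `p`-element
    have hgp : ∃ k, orderOf g = p ^ k := by
      have hcomm : Commute (a : G) (x * b * x⁻¹) := (hxx b b.2 a a.2).symm
      have h1 : g ^ (p ^ (i + j)) = 1 := by
        rw [hg, hcomm.mul_pow]
        have e1 : (a : G) ^ p ^ (i + j) = 1 := by
          rw [pow_add, pow_mul, ← ha, ← orderOf_coe, pow_orderOf_eq_one, one_pow]
        have e2 : (x * b * x⁻¹) ^ p ^ (i + j) = 1 := by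
          rw [conj_pow]
          have : (b : G) ^ p ^ (i + j) = 1 := by
            rw [pow_add, mul_comm (p ^ i), pow_mul, ← hb, ← orderOf_coe, pow_orderOf_eq_one, one_pow]
          rw [this, mul_one, mul_inv_cancel]
        rw [e1, e2, mul_one]
      obtain ⟨k, -, hk⟩ := (Nat.dvd_prime_pow hp).1 (orderOf_dvd_of_pow_eq_one h1)
      exact ⟨k, hk⟩
    have hsol := h p hp hp2 g (mul_mem (hLN a.2) (hNn.conj_mem _ (hLN b.2) x)) hgp
    set S := _root_.Subgroup.closure ({x, g} : Set G) with hS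
    have hxS : x ∈ S := _root_.Subgroup.subset_closure (by simp)
    have hgS : g ∈ S := _root_.Subgroup.subset_closure (by simp)
    have hdS : x⁻¹ * g * x ∈ S := mul_mem (mul_mem (inv_mem hxS) hgS) hxS
    have e2 : x⁻¹ * g * x = (x⁻¹ * a * x⁻¹⁻¹) * b := by
      rw [hg]; group
    have m1 : (x * b * x⁻¹) ∈ normalizer (L : Set G) := mem_normalizer_of_comm (hxx _ b.2)
    have m2 : (x⁻¹ * a * x⁻¹⁻¹) ∈ normalizer (L : Set G) := mem_normalizer_of_comm (hxxi _ a.2)
    have hgN : g ∈ normalizer (L : Set G) := mul_mem (le_normalizer a.2) m1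
    have hdN : x⁻¹ * g * x ∈ normalizer (L : Set G) := by
      rw [e2]; exact mul_mem m2 (le_normalizer b.2)
    have r1 : L.normalizerMonoidHom ⟨g, hgN⟩ = MulAut.conj a := by
      have : (⟨g, hgN⟩ : normalizer (L : Set G)) = ⟨a, le_normalizer a.2⟩ * ⟨_, m1⟩ := rfl
      rw [this, map_mul, acts_inner, acts_one m1 (hxx _ b.2), mul_one]
    have r2 : L.normalizerMonoidHom ⟨_, hdN⟩ = MulAut.conj b := by
      have : (⟨_, hdN⟩ : normalizer (L : Set G)) = ⟨_, m2⟩ * ⟨b, le_normalizer b.2⟩ := Subtype.ext e2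
      rw [this, map_mul, acts_inner, acts_one m2 (hxxi _ a.2), one_mul]
    exact hns (solvable_of_conj hcen (key hsol hgS hdS hgN hdN r1 r2))

end

theorem quot_solvable {H : Type*} [Group H] (N : Subgroup H) [N.Normal] (x : H) (h : N ⊔ zpowers x = ⊤) :
    Group.IsSolvable (H ⧸ N) := by
  have h1 : ∀ z : H ⧸ N, z ∈ zpowers (QuotientGroup.mk' N x) := by
    have h2 : (⊤ : Subgroup (H ⧸ N)) = zpowers (QuotientGroup.mk' N x) := by
      rw [← MonoidHom.map_zpowers, ← (MonoidHom.range_eq_top.2 (QuotientGroup.mk'_surjective N)),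
        MonoidHom.range_eq_map, ← h, Subgroup.map_sup]
      have : N.map (QuotientGroup.mk' N) = ⊥ := by
        rw [Subgroup.map_eq_bot_iff, QuotientGroup.ker_mk']
      rw [this, bot_sup_eq]
    intro z
    rw [← h2]
    trivial
  refine Group.isSolvable_of_comm fun a b => ?_
  obtain ⟨i, rfl⟩ := mem_zpowers_iff.1 (h1 a)
  obtain ⟨j, rfl⟩ := mem_zpowers_iff.1 (h1 b)
  rw [← zpow_add, ← zpow_add, add_comm]

theorem quot_quot_solvable {H : Type*} [Group H] (N R : Subgroup H) [N.Normal] [R.Normal]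
    [(N.map (QuotientGroup.mk' R)).Normal] (h : Group.IsSolvable (H ⧸ N)) :
    Group.IsSolvable ((H ⧸ R) ⧸ N.map (QuotientGroup.mk' R)) := by
  let f : H ⧸ N →* (H ⧸ R) ⧸ N.map (QuotientGroup.mk' R) :=
    QuotientGroup.map N (N.map (QuotientGroup.mk' R)) (QuotientGroup.mk' R) (by
    rw [← Subgroup.map_le_iff_le_comap])
  refine Group.isSolvable_of_surjective (f := f) ?_
  intro z
  obtain ⟨w, rfl⟩ := QuotientGroup.mk'_surjective _ z
  obtain ⟨h, rfl⟩ := QuotientGroup.mk'_surjective R w
  exact ⟨QuotientGroup.mk' N h, rfl⟩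

section RCsec

variable {K : Type u} [Group K] [Finite K] [IsSimpleGroup K]

theorem center_eq_bot (hK : ¬ IsMulCommutative K) : center K = ⊥ := by
  rcases (inferInstance : (center K).Normal).eq_bot_or_eq_top with h1 | h1
  · exact h1
  · exfalso
    apply hK
    refine ⟨⟨fun a b => ?_⟩⟩
    have ha : b ∈ center K := by rw [h1]; trivial
    exact mem_center_iff.1 ha a

/-- A non-radical automorphism satisfies the conclusion of `PE.aut`. -/
theorem aut_of_not_RC (hK : ¬ IsMulCommutative K)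
    (IH : ∀ (L : Type u) [Group L] [Finite L] [IsSimpleGroup L], ¬ IsMulCommutative L → Nat.card L < Nat.card K → PE L)
    {x : MulAut K} (hx : ¬ RC x) :
    ∃ y : K, OddPow y ∧ ¬ Group.IsSolvable (closure ({x, MulAut.conj y} : Set (MulAut K))) := by
  by_contra hcon
  push Not at hcon
  apply hx
  intro M hM hMx m hm
  have hcen := center_eq_bot hK
  have hinj := conj_injective hcen
  -- the group `H = Inn(M) ⟨x⟩`
  set M' : Subgroup (MulAut K) := M.map MulAut.conj with hM'
  have hconj : ∀ k : K, x * MulAut.conj k * x⁻¹ = MulAut.conj (x k) := by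
    intro k
    ext l
    simp only [_root_.MulAut.mul_apply, _root_.MulAut.inv_apply, _root_.MulAut.conj_apply, _root_.map_mul, _root_.MulEquiv.apply_symm_apply, _root_.map_inv]
  set H : Subgroup (MulAut K) := M' ⊔ zpowers x with hH
  have hxH : x ∈ H := mem_sup_right (mem_zpowers x)
  have hM'H : M' ≤ H := le_sup_left
  have hM'x : ∀ g ∈ M', x * g * x⁻¹ ∈ M' := by
    rintro _ ⟨l, hl, rfl⟩
    exact ⟨x l, hMx l hl, (hconj l).symm⟩
  have hHn : H ≤ normalizer (M' : Set (MulAut K)) := by
    refine sup_le le_normalizer ?_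
    rw [zpowers_le]
    refine mem_normalizer_of_cj ?_
    have hle : cj x M' ≤ M' := by
      rintro _ ⟨g, hg, rfl⟩
      exact hM'x g hg
    exact Subgroup.eq_of_le_of_card_ge hle (le_of_eq (Subgroup.card_map_of_injective
      (K := M') (MulAut.conj x).injective).symm)
  -- the normal subgroup `N₀` of `H`
  set N₀ : Subgroup H := M'.subgroupOf H with hN₀
  have hN₀n : N₀.Normal := (normal_subgroupOf_iff_le_normalizer hM'H).2 hHn
  have hN₀s : Group.IsSolvable (H ⧸ N₀) := by
    refine quot_solvable N₀ ⟨x, hxH⟩ ?_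
    apply map_injective H.subtype_injective
    rw [Subgroup.map_sup, MonoidHom.map_zpowers, hN₀, subgroupOf_map_subtype, inf_eq_left.2 hM'H,
      ← MonoidHom.range_eq_map, range_subtype]
    rfl
  -- modulo the radical
  set R := solvableRadical H with hRdef
  have hRn : R.Normal := rad_normal H
  set N₁ : Subgroup (H ⧸ R) := N₀.map (QuotientGroup.mk' R) with hN₁
  have hN₁n : N₁.Normal := hN₀n.map _ (QuotientGroup.mk'_surjective R)
  have hN₁s : Group.IsSolvable ((H ⧸ R) ⧸ N₁) := quot_quot_solvable N₀ R hN₀s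
  have hcardM' : Nat.card M' = Nat.card M := card_map_of_injective hinj
  have hMlt : Nat.card M < Nat.card K :=
    lt_of_le_of_ne (Subgroup.card_le_card_group M) fun h => hM (Subgroup.eq_top_of_card_eq M h)
  have hcardN₁ : Nat.card N₁ ≤ Nat.card M := by
    have h1 : Nat.card N₁ ≤ Nat.card N₀ := by
      exact Nat.le_of_dvd Nat.card_pos (card_map_dvd N₀ _)
    have h2 : Nat.card N₀ = Nat.card M' := Nat.card_congr (subgroupOfEquivOfLe hM'H).toEquiv
    omega
  have hx1 : QuotientGroup.mk' R ⟨x, hxH⟩ = 1 := by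
    refine eq_one_in hN₁s (rad_quotient (G := H)) ?_ ?_
    · intro L hL hLs hLc
      refine IH L hLc (lt_of_le_of_lt ?_ hMlt)
      exact (card_le_of_le hL).trans hcardN₁
    · intro p hp hp2 y hy hk
      obtain ⟨k, hk⟩ := hk
      obtain ⟨y0, hy0, rfl⟩ := hy
      -- lift to `M`
      obtain ⟨m0, hm0, hm0'⟩ := mem_subgroupOf.1 hy0
      let f : M →* H ⧸ R := (QuotientGroup.mk' R).comp
        ((inclusion hM'H).comp ((MulAut.conj : K →* MulAut K).subgroupMap M))
      have hf0 : f ⟨m0, hm0⟩ = QuotientGroup.mk' R y0 := by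
        show QuotientGroup.mk' R _ = QuotientGroup.mk' R y0
        congr 1
        exact Subtype.ext hm0'
      have hy0r : QuotientGroup.mk' R y0 ∈ f.range := MonoidHom.mem_range.2 ⟨⟨m0, hm0⟩, hf0⟩
      obtain ⟨⟨g, hg'⟩, hg, j, hj⟩ := exists_lift (f.rangeRestrict) f.rangeRestrict_surjective hp
        (h := ⟨QuotientGroup.mk' R y0, hy0r⟩) (k := k) (by
          rw [Subgroup.orderOf_mk]; exact hk)
      have hg1 := congrArg Subtype.val hg
      have hg2 : f ⟨g, hg'⟩ = QuotientGroup.mk' R y0 := hg1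
      have hg3 : orderOf (g : K) = p ^ j := by rw [← hj, Subgroup.orderOf_mk]
      have hsol := hcon g ⟨p, j, hp, hp2, hg3⟩
      -- transport
      have hgM' : MulAut.conj (g : K) ∈ H := hM'H ⟨g, hg', rfl⟩
      have h5 : Group.IsSolvable (closure ({⟨x, hxH⟩, ⟨MulAut.conj (g : K), hgM'⟩} : Set H)) := by
        have h6 : (_root_.Subgroup.closure ({⟨x, hxH⟩, ⟨MulAut.conj (g : K), hgM'⟩} : Set H)).map H.subtype =
            _root_.Subgroup.closure ({x, MulAut.conj (g : K)} : Set (MulAut K)) := by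
          rw [MonoidHom.map_closure, Set.image_pair]; rfl
        rw [← h6] at hsol
        exact Group.isSolvable_of_isSolvable_injective
          (f := ((_root_.Subgroup.closure ({⟨x, hxH⟩, ⟨MulAut.conj (g : K), hgM'⟩} : Set H)).equivMapOfInjective H.subtype
            H.subtype_injective).toMonoidHom) (MulEquiv.injective _)
      have h7 : (_root_.Subgroup.closure ({⟨x, hxH⟩, ⟨MulAut.conj (g : K), hgM'⟩} : Set H)).map (QuotientGroup.mk' R) =
          _root_.Subgroup.closure ({QuotientGroup.mk' R ⟨x, hxH⟩, QuotientGroup.mk' R y0} : Set (H ⧸ R)) := by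
        rw [MonoidHom.map_closure, Set.image_pair, ← hg2]
        rfl
      rw [← h7]
      exact isSolvable_map h5 _
  have hxR : x ∈ radIn H := by
    have h1 : (⟨x, hxH⟩ : H) ∈ R := (QuotientGroup.eq_one_iff _).1 hx1
    exact mem_radIn_coe.2 h1
  -- the commutator
  have h1 : MulAut.conj (m⁻¹ * x m) ∈ radIn H := by
    have hmH : MulAut.conj m ∈ H := hM'H ⟨m, hm, rfl⟩
    have h2 := radIn_conj_mem (inv_mem hmH) hxR
    rw [inv_inv] at h2
    have h3 := mul_mem h2 (inv_mem hxR)
    have e : (MulAut.conj m)⁻¹ * x * MulAut.conj m * x⁻¹ = MulAut.conj (m⁻¹ * x m) := by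
      rw [map_mul, map_inv, ← hconj m]
      group
    rwa [e] at h3
  have h2 : MulAut.conj (m⁻¹ * x m) ∈ M' := ⟨_, mul_mem (inv_mem hm) (hMx m hm), rfl⟩
  have h3 := radIn_inf_le hM'H ⟨h1, h2⟩
  have h4 : radIn M' ≤ (radIn M).map MulAut.conj := by
    intro z hz
    obtain ⟨w, hw, rfl⟩ := radIn_le M' hz
    refine ⟨w, ?_, rfl⟩
    have h6 : (radIn M').comap MulAut.conj ≤ radIn M := by
      refine le_radIn ?_ ?_ ?_
      · intro l hl
        obtain ⟨l', hl', h7⟩ := radIn_le M' (mem_comap.1 hl)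
        rwa [← hinj h7]
      · intro g hg n hn
        rw [mem_comap] at hn ⊢
        rw [map_mul, map_mul, map_inv]
        exact radIn_conj_mem (M := M') ⟨g, hg, rfl⟩ hn
      · have h8 := radIn_solvable M'
        let f : ↥((radIn M').comap (MulAut.conj : K →* MulAut K)) →* ↥(radIn M') :=
          ((MulAut.conj : K →* MulAut K).comp ((radIn M').comap (MulAut.conj : K →* MulAut K)).subtype).codRestrict _
            fun s => s.2
        refine Group.isSolvable_of_isSolvable_injective (f := f) ?_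
        intro s t hst
        exact Subtype.ext (hinj (congrArg Subtype.val hst))
    exact h6 hz
  obtain ⟨w, hw, h5⟩ := h4 h3
  rwa [← hinj h5]

/-- **The reduction of S3853 to radical automorphisms of prime order.** -/
theorem PE.of_RC (hK : ¬ IsMulCommutative K)
    (IH : ∀ (L : Type u) [Group L] [Finite L] [IsSimpleGroup L], ¬ IsMulCommutative L → Nat.card L < Nat.card K → PE L)
    (haut : ∀ x : MulAut K, (orderOf x).Prime → RC x →
      ∃ y : K, OddPow y ∧ ¬ Group.IsSolvable (closure ({x, MulAut.conj y} : Set (MulAut K))))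
    (hpair : ∃ p : ℕ, p.Prime ∧ p ≠ 2 ∧ ∃ a b : K, (∃ k, orderOf a = p ^ k) ∧ (∃ k, orderOf b = p ^ k) ∧
      ¬ Group.IsSolvable (closure ({a, b} : Set K))) : PE K := by
  refine ⟨fun x hx => ?_, hpair⟩
  have hfin : Finite (MulAut K) := inferInstance
  -- a power of prime order
  obtain ⟨q, hq, hqd⟩ := Nat.exists_prime_and_dvd (n := orderOf x) (fun h => hx (orderOf_eq_one_iff.1 h))
  have hox : orderOf (x ^ (orderOf x / q)) = q := by
    rw [orderOf_pow_of_dvd (Nat.div_pos (Nat.le_of_dvd (orderOf_pos x) hqd) hq.pos).ne' (Nat.div_dvd_of_dvd hqd),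
      Nat.div_div_self hqd (orderOf_pos x).ne']
  obtain ⟨y, hy, hns⟩ : ∃ y : K, OddPow y ∧
      ¬ Group.IsSolvable (closure ({x ^ (orderOf x / q), MulAut.conj y} : Set (MulAut K))) := by
    by_cases hRC : RC (x ^ (orderOf x / q))
    · exact haut _ (by rw [hox]; exact hq) hRC
    · exact aut_of_not_RC hK IH hRC
  refine ⟨y, hy, fun hs => hns (isSolvable_of_le ?_ hs)⟩
  rw [closure_le]
  rintro z (rfl | rfl)
  · exact pow_mem (_root_.Subgroup.subset_closure (by simp)) _
  · exact _root_.Subgroup.subset_closure (by simp)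

end RCsec

/-- S3853 by induction over the simple groups -/
theorem reduction_ind (core : ∀ (K : Type u) [Group K] [Finite K] [IsSimpleGroup K], ¬ IsMulCommutative K →
    (∀ (L : Type u) [Group L] [Finite L] [IsSimpleGroup L], ¬ IsMulCommutative L → Nat.card L < Nat.card K → PE L) →
      PE K)
    (G : Type u) [Group G] [Finite G] (x : G) :
    x ∈ Cfsg.solvableRadical G ↔ ∀ p : ℕ, p.Prime → p ≠ 2 → ∀ y : G, (∃ k : ℕ, orderOf y = p ^ k) →
      Group.IsSolvable ↥(Subgroup.closure ({x, y} : Set G)) := by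
  refine reduction ?_ G x
  intro K _ _ _ hK
  induction hn : Nat.card K using Nat.strong_induction_on generalizing K with
  | _ n ih =>
    subst hn
    exact core K hK fun L _ _ _ hL hlt => ih _ hlt L hL rfl

end Cfsg.Agent.H465.Red
end

-- part: H821/SpB
section
/-!
# A solvably unique element of the Baby Monster (helper821)

`p = 47`: elements of order 47 do not commute with involutions and `m_2(B) ≤ 22` (`C(z)` is an extension of an
extraspecial group of order `2 ^ 23` by `Co2`, and `m_2(Co2) ≤ 10`).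
-/

set_option autoImplicit false

namespace Cfsg.Agent.H821.SpB

open Subgroup Cfsg Cfsg.Agent.H465.SU

section

variable {G : Type*} [Group G] [Finite G]

/-- the criterion with a bound on the elementary abelian 2-subgroups -/
theorem SUel_of_two {p : ℕ} (hp : p.Prime) (h1 : ¬ p ^ 2 ∣ Nat.card G) {y : G} (hy : orderOf y = p)
    (har : ∀ t k : ℕ, t.Prime → t ≠ p → t ≠ 2 → 0 < k → t ^ k ∣ Nat.card G → ¬ p ∣ t ^ k - 1)
    (hc : ∀ u : G, orderOf u = 2 → y * u ≠ u * y)
    (h : ∀ (k : ℕ) (E : Subgroup G), 0 < k → Nat.card E = 2 ^ k → 2 ^ k ∣ Nat.card G →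
      p ∣ 2 ^ k - 1 → (∀ u ∈ E, u * u = 1) → False) : SUel p y := by
  refine SUel.of_prime hp h1 hy fun t ht htp T hT hyT u hu => ?_
  have hft : Fact t.Prime := ⟨ht⟩
  by_cases ht2 : t = 2
  swap
  · obtain ⟨k, hk⟩ := IsPGroup.iff_card.1 hT
    obtain ⟨j, hjk, hj, hdvd⟩ := card_fixed hp ht htp hy hk hyT
    have hj0 : j = 0 := by
      by_contra hj0
      refine har t j ht htp ht2 (Nat.pos_of_ne_zero hj0) ?_ hdvd
      exact (pow_dvd_pow t hjk).trans (hk ▸ card_subgroup_dvd_card T)
    rw [hj0, Nat.sub_zero, ← hk] at hj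
    have h2 : T ⊓ centralizer ({y} : Set G) = T := eq_of_le_of_card_ge inf_le_left hj.ge
    have h3 : u ∈ T ⊓ centralizer ({y} : Set G) := by rw [h2]; exact hu
    exact (mem_centralizer_singleton_iff.1 h3.2).symm
  subst ht2
  by_cases hT1 : T = ⊥
  · rw [hT1, mem_bot] at hu
    rw [hu, mul_one, one_mul]
  exfalso
  -- `E = Ω₁(Z(T))`
  let E : Subgroup G :=
    { carrier := {u | u ∈ T ∧ (∀ v ∈ T, u * v = v * u) ∧ u * u = 1}
      one_mem' := ⟨T.one_mem, fun v _ => by rw [one_mul, mul_one], one_mul _⟩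
      mul_mem' := by
        rintro a b ⟨ha1, ha2, ha3⟩ ⟨hb1, hb2, hb3⟩
        refine ⟨T.mul_mem ha1 hb1, fun v hv => ?_, ?_⟩
        · rw [mul_assoc, hb2 v hv, ← mul_assoc, ha2 v hv, mul_assoc]
        · calc a * b * (a * b) = a * (b * a) * b := by group
            _ = a * (a * b) * b := by rw [ha2 b hb1]
            _ = (a * a) * (b * b) := by group
            _ = 1 := by rw [ha3, hb3, one_mul]
      inv_mem' := by
        rintro a ⟨ha1, ha2, ha3⟩
        refine ⟨T.inv_mem ha1, fun v hv => ?_, ?_⟩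
        · have : Commute a v := ha2 v hv
          exact this.inv_left
        · rw [← mul_inv_rev, ha3, inv_one] }
  -- `y⁻¹ T y = T`
  have hyT' : ∀ u ∈ T, y⁻¹ * u * y ∈ T := by
    intro u hu
    have h1 : T.map (MulAut.conj y).toMonoidHom = T := by
      refine eq_of_le_of_card_ge ?_ (le_of_eq (card_map_of_injective (MulAut.conj y).injective).symm)
      rintro _ ⟨v, hv, rfl⟩
      exact hyT v hv
    rw [← h1] at hu
    obtain ⟨v, hv, rfl⟩ := hu
    have : y⁻¹ * ((MulAut.conj y).toMonoidHom v) * y = v := by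
      show y⁻¹ * (y * v * y⁻¹) * y = v
      group
    rw [this]
    exact hv
  have hyE : ∀ u ∈ E, y * u * y⁻¹ ∈ E := by
    rintro u ⟨hu1, hu2, hu3⟩
    refine ⟨hyT u hu1, fun v hv => ?_, ?_⟩
    · have h2 := hu2 _ (hyT' v hv)
      calc y * u * y⁻¹ * v = y * (u * (y⁻¹ * v * y)) * y⁻¹ := by group
        _ = y * ((y⁻¹ * v * y) * u) * y⁻¹ := by rw [h2]
        _ = v * (y * u * y⁻¹) := by group
    · calc y * u * y⁻¹ * (y * u * y⁻¹) = y * (u * u) * y⁻¹ := by group
        _ = 1 := by rw [hu3, mul_one, mul_inv_cancel]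
  have hET : E ≤ T := fun u hu => hu.1
  have hEp : IsPGroup 2 E := hT.to_le hET
  obtain ⟨k, hk⟩ := IsPGroup.iff_card.1 hEp
  -- `E ≠ 1`
  have hE1 : E ≠ ⊥ := by
    have hnt : Nontrivial T := (nontrivial_iff_ne_bot T).2 hT1
    have hcn : Nontrivial (center T) := hT.center_nontrivial
    have h2 : 2 ∣ Nat.card (center T) := by
      have h3 : IsPGroup 2 (center T) := hT.to_subgroup _
      obtain ⟨m, hm⟩ := IsPGroup.iff_card.1 h3
      have h4 : m ≠ 0 := by
        rintro rfl
        rw [pow_zero] at hm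
        have := Finite.one_lt_card (α := center T)
        omega
      rw [hm]
      exact dvd_pow_self 2 h4
    obtain ⟨w, hw⟩ := exists_prime_orderOf_dvd_card' (G := center T) 2 h2
    intro hbot
    have h5 : ((w : T) : G) ∈ E := by
      refine ⟨(w : T).2, fun v hv => ?_, ?_⟩
      · have := mem_center_iff.1 w.2 ⟨v, hv⟩
        exact (congrArg Subtype.val this).symm
      · have : w * w = 1 := by rw [← pow_two, ← hw, pow_orderOf_eq_one]
        exact congrArg (fun z : center T => ((z : T) : G)) this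
    rw [hbot, mem_bot] at h5
    have h6 : w = 1 := Subtype.ext (Subtype.ext h5)
    rw [h6, orderOf_one] at hw
    omega
  -- `C_E(y) = 1`
  have hCE : E ⊓ centralizer ({y} : Set G) = ⊥ := by
    rw [eq_bot_iff]
    rintro u ⟨hu1, hu2⟩
    rw [mem_bot]
    by_contra hu0
    have h2 : orderOf u = 2 := orderOf_eq_prime (by rw [pow_two]; exact hu1.2.2) hu0
    exact hc u h2 (mem_centralizer_singleton_iff.1 hu2).symm
  obtain ⟨j, hjk, hj, hdvd⟩ := card_fixed hp ht htp hy hk hyE
  rw [hCE, card_bot] at hj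
  have hkj : k - j = 0 := by
    by_contra h0
    exact (Nat.one_lt_pow h0 ht.one_lt).ne hj
  have hjk' : j = k := by omega
  rw [hjk'] at hdvd
  have hk0 : 0 < k := by
    rcases Nat.eq_zero_or_pos k with h0 | h0
    · rw [h0, pow_zero] at hk
      exact absurd (Subgroup.card_eq_one.1 hk) hE1
    · exact h0
  exact h k E hk0 hk (hk ▸ card_subgroup_dvd_card E) hdvd (fun u hu => hu.2.2)

end

open Cfsg.Agent.BabyM Cfsg.Agent.BabyM.Model Cfsg.Agent.BabyU.ClosModel Cfsg.Agent.BabyU.ClosLane
open Cfsg.Agent.KFacts.Baby Cfsg.Agent.Omega.TwoF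

universe u

/-- **`m_2(B) ≤ 22`** for the model. -/
theorem rk_model : Rk.RK.{u} Inst.M.G 22 := by
  have := A.finite_G
  have := Instance.all.simple
  have hf := Cfsg.Agent.Schreier.CoTwoStab.finite
  obtain ⟨e⟩ := Cfsg.Agent.Schreier.CoTwoStab.exists_equiv _ GroupInst.dt_l₀
  refine RkB.rk_of_data (KFacts.Baby.Sheet.data KFacts.CoTwo.InnerB.inner KFacts.Baby.Row.fix) (w := 11) (l := 10)
    (by rw [KFacts.Baby.CaseM.card_PP]) fun B hB => ?_
  rw [Nat.card_congr (B.equivMapOfInjective e.toMonoidHom e.injective).toEquiv]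
  exact Cfsg.Agent.Omega.CoTwoK.RankCo2.card_le (hB.map _)

/-- **elementary abelian 2-subgroups of `B` have order at most `2 ^ 22`** -/
theorem card_le {G : Type u} [Group G] [Finite G] (h : Spor.IsoB G) {E : Subgroup G} (hE : ∀ a ∈ E, a * a = 1) :
    Nat.card E ≤ 2 ^ 22 := by
  obtain ⟨e⟩ := h
  obtain ⟨f⟩ := RowB.iso_model
  refine rk_model G ⊤ ⟨Subgroup.topEquiv.trans (e.trans f.symm)⟩ ?_ E hE
  rw [coe_top, centralizer_univ, eq_bot_iff]
  intro z hz
  have h1 : e z ∈ center Spor.BabyMonster := by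
    rw [mem_center_iff]
    intro g
    have h2 := mem_center_iff.1 hz (e.symm g)
    have h3 := congrArg e h2
    rw [map_mul, map_mul, e.apply_symm_apply] at h3
    exact h3
  rw [RowB.center_eq, mem_bot] at h1
  rw [mem_bot]
  exact e.injective (h1.trans (map_one e).symm)

theorem hasSU1 {G : Type*} [Group G] [Finite G] (h : Spor.IsoB G) : HasSU1 G := by
  have hcard := Cfsg.Agent.NotCT.Orders.b h
  have : Fact (Nat.Prime 47) := ⟨by norm_num⟩
  have hp : Nat.Prime 47 := by norm_num
  have hnd : ¬ 47 ^ 2 ∣ Nat.card G := by rw [hcard]; norm_num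
  obtain ⟨y, hy⟩ := exists_prime_orderOf_dvd_card' (G := G) 47 (by rw [hcard]; norm_num)
  refine ⟨47, y, hp, by norm_num, hy, hnd, SUel_of_two hp hnd hy ?_ ?_ ?_⟩
  · intro t k ht htp ht2 hk hdvd h47
    have h1 : t ^ k ∣ 47 * ([(3, 13), (5, 6), (7, 2), (11, 1), (13, 1), (17, 1), (19, 1), (23, 1), (31, 1)].map
        fun x : ℕ × ℕ => x.1 ^ x.2).prod := by
      have h2 : t ^ k ∣ 2 ^ 41 * (47 * ([(3, 13), (5, 6), (7, 2), (11, 1), (13, 1), (17, 1), (19, 1), (23, 1), (31, 1)].map
          fun x : ℕ × ℕ => x.1 ^ x.2).prod) := by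
        rw [hcard] at hdvd
        convert hdvd using 1
        decide +kernel
      exact (Nat.Coprime.pow k 41 ((Nat.coprime_primes ht Nat.prime_two).2 ht2)).dvd_of_dvd_mul_left h2
    exact arith_of_list (p := 47) [(3, 13), (5, 6), (7, 2), (11, 1), (13, 1), (17, 1), (19, 1), (23, 1), (31, 1)]
      (by norm_num only [_root_.List.mem_cons, _root_.List.not_mem_nil, _root_.or_false, _root_.forall_eq_or_imp, _root_.forall_eq, _root_.and_self]) rfl hp (by decide +kernel) (by decide +kernel) t k ht htp hk h1 h47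
  · intro u hu
    exact Cfsg.Agent.H393.Iso.na_b h y u hy hu
  · intro k E hk hE hdvd h47 h2
    have hk23 : 23 ≤ k := by
      by_contra hcon
      push Not at hcon
      interval_cases k <;> norm_num at h47
    have h1 := card_le h h2
    rw [hE] at h1
    exact absurd h1 (not_le.2 (Nat.pow_lt_pow_right (by norm_num) (by omega)))

end Cfsg.Agent.H821.SpB
end
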